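import Mathlib
import Groth.Prelude.Def_W4c61motalbdualityCompl

/-! Characters, compact open subgroups and completions along open finite-index subgroups. -/

namespace Groth.Agent.ProComplLib

open Topology Filter W4c61motalbduality

universe u v

local notation "QZ" => ℚ ⧸ AddSubgroup.zmultiples (1 : ℚ)

variable {A : Type u} {B : Type v} [AddCommGroup A] [AddCommGroup B]

theorem exists_extend (i : A →+ B) (hi : Function.Injective i) (χ : A →+ QZ) :
    ∃ ψ : B →+ QZ, ψ.comp i = χ :=
  (Module.Baer.of_divisible (AddCircle (1 : ℚ))).extension_property_addMonoidHom i hi χ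

theorem exists_char_ne {a : A} (ha : a ≠ 0) : ∃ χ : A →+ QZ, χ a ≠ 0 :=
  CharacterModule.exists_character_apply_ne_zero_of_ne_zero ha

theorem exists_char_ne_of_not_mem {H : AddSubgroup A} {a : A} (ha : a ∉ H) :
    ∃ χ : A →+ QZ, H ≤ χ.ker ∧ χ a ≠ 0 := by
  obtain ⟨c, hc⟩ := exists_char_ne (A := A ⧸ H) (a := (a : A ⧸ H))
    (mt (QuotientAddGroup.eq_zero_iff a).1 ha)
  refine ⟨AddMonoidHom.comp c (QuotientAddGroup.mk' H), fun x hx => ?_, hc⟩
  show c (x : A ⧸ H) = 0
  rw [(QuotientAddGroup.eq_zero_iff x).2 hx, map_zero]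

theorem exists_extend_of_le (i : A →+ B) (U : AddSubgroup B) (χ : A →+ QZ)
    (h : ∀ a, i a ∈ U → χ a = 0) : ∃ ψ : B →+ QZ, U ≤ ψ.ker ∧ ψ.comp i = χ := by
  let j : A →+ B ⧸ U := (QuotientAddGroup.mk' U).comp i
  have hj : j.ker ≤ χ.ker := fun a ha => h a ((QuotientAddGroup.eq_zero_iff (i a)).1 ha)
  obtain ⟨ψ, hψ⟩ := exists_extend (QuotientAddGroup.kerLift j)
    (QuotientAddGroup.kerLift_injective j) (QuotientAddGroup.lift j.ker χ hj)
  refine ⟨ψ.comp (QuotientAddGroup.mk' U), fun x hx => ?_, AddMonoidHom.ext fun a => ?_⟩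
  · show ψ (x : B ⧸ U) = 0
    rw [(QuotientAddGroup.eq_zero_iff x).2 hx, map_zero]
  · exact DFunLike.congr_fun hψ (a : A ⧸ j.ker)

theorem isOfFinAddOrder_qz (x : QZ) : IsOfFinAddOrder x := by
  obtain ⟨q, rfl⟩ := QuotientAddGroup.mk_surjective x
  refine isOfFinAddOrder_iff_nsmul_eq_zero.2 ⟨q.den, q.den_pos, ?_⟩
  rw [← QuotientAddGroup.mk_nsmul, QuotientAddGroup.eq_zero_iff]
  refine ⟨q.num, ?_⟩
  simp

theorem finite_qz_torsion {n : ℕ} (hn : 0 < n) : {x : QZ | n • x = 0}.Finite :=
  AddCircle.finite_torsion (1 : ℚ) hn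

theorem finiteIndex_ker_of_nsmul (χ : A →+ QZ) {n : ℕ} (hn : 0 < n)
    (h : ∀ a, n • χ a = 0) : χ.ker.FiniteIndex := by
  have : Finite χ.range := Set.Finite.to_subtype <| (finite_qz_torsion hn).subset fun x hx => by
    obtain ⟨a, rfl⟩ := hx
    exact h a
  infer_instance

variable [TopologicalSpace B] [IsTopologicalAddGroup B]

/-- A character with open kernel of a compactly generated group has kernel of finite index. -/
theorem finiteIndex_ker_of_isOpen
    (hcg : ∃ K : Set B, IsCompact K ∧ AddSubgroup.closure K = ⊤)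
    (χ : B →+ QZ) (hχ : IsOpen (χ.ker : Set B)) : χ.ker.FiniteIndex := by
  obtain ⟨K, hK, hgen⟩ := hcg
  obtain ⟨t, ht⟩ := hK.elim_finite_subcover (fun b : B => (fun x => x - b) ⁻¹' (χ.ker : Set B))
    (fun b => hχ.preimage (continuous_id.sub continuous_const))
    (fun x _ => Set.mem_iUnion.2 ⟨x, by simp⟩)
  refine finiteIndex_ker_of_nsmul χ (n := ∏ b ∈ t, addOrderOf (χ b))
    (Finset.prod_pos fun b _ => (isOfFinAddOrder_qz (χ b)).addOrderOf_pos) fun a => ?_
  have hle : AddSubgroup.closure K ≤ ((∏ b ∈ t, addOrderOf (χ b)) • χ).ker := by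
    refine (AddSubgroup.closure_le _).2 fun x hx => ?_
    obtain ⟨b, hb, hxb⟩ : ∃ b ∈ t, χ x = χ b := by simpa [Set.mem_iUnion, sub_eq_zero] using ht hx
    show (∏ b ∈ t, addOrderOf (χ b)) • χ x = 0
    rw [hxb, ← addOrderOf_dvd_iff_nsmul_eq_zero]
    exact Finset.dvd_prod_of_mem _ hb
  rw [hgen] at hle
  exact hle (AddSubgroup.mem_top a)

/-- van Dantzig: compact open subgroups form a neighbourhood basis at zero. -/
theorem exists_compact_open_subgroup [T2Space B] [LocallyCompactSpace B]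
    [TotallyDisconnectedSpace B] {U : Set B} (hU : U ∈ 𝓝 (0 : B)) :
    ∃ H : AddSubgroup B, IsOpen (H : Set B) ∧ IsCompact (H : Set B) ∧ (H : Set B) ⊆ U := by
  obtain ⟨K, hK, hKU, hKc⟩ := local_compact_nhds hU
  obtain ⟨V, hV, hV0, hVK⟩ :=
    loc_compact_Haus_tot_disc_of_zero_dim.exists_subset_of_mem_open
      (mem_interior_iff_mem_nhds.2 hK) isOpen_interior
  have hVK' : V ⊆ K := hVK.trans interior_subset
  have hVc : IsCompact V := hKc.of_isClosed_subset hV.1 hVK'
  let H : AddSubgroup B :=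
    { carrier := {g | ∀ v ∈ V, g + v ∈ V ∧ -g + v ∈ V}
      zero_mem' := fun v hv => by simpa using hv
      add_mem' := fun {g g'} hg hg' v hv =>
        ⟨by rw [add_assoc]; exact (hg _ (hg' v hv).1).1,
          by rw [neg_add_rev, add_assoc]; exact (hg' _ (hg v hv).2).2⟩
      neg_mem' := fun {g} hg v hv => ⟨(hg v hv).2, by simpa using (hg v hv).1⟩ }
  have hHV : (H : Set B) ⊆ V := fun g hg => by simpa using (hg 0 hV0).1
  refine ⟨H, ?_, hVc.of_isClosed_subset ?_ hHV, hHV.trans (hVK'.trans hKU)⟩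
  · obtain ⟨W, hW, hWV⟩ := compact_open_separated_add_left hVc hV.2 subset_rfl
    refine AddSubgroup.isOpen_of_mem_nhds H (g := 0)
      (Filter.mem_of_superset (inter_mem hW (neg_mem_nhds_zero B hW)) ?_)
    exact fun g hg v hv => ⟨hWV (Set.add_mem_add hg.1 hv),
      hWV (Set.add_mem_add (by simpa using hg.2) hv)⟩
  · have : (H : Set B) = ⋂ v ∈ V, ((fun g => g + v) ⁻¹' V) ∩ ((fun g => -g + v) ⁻¹' V) := by
      ext g
      simp only [Set.mem_iInter, Set.mem_inter_iff, Set.mem_preimage]
      rfl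
    rw [this]
    exact isClosed_biInter fun v _ =>
      (hV.1.preimage (continuous_id.add continuous_const)).inter
        (hV.1.preimage (continuous_neg.add continuous_const))

section FICompl

variable [TopologicalSpace A] [IsTopologicalAddGroup A]

omit [IsTopologicalAddGroup A] in
theorem openFI_inf_exists (V W : OpenFI A) :
    ∃ U : OpenFI A, U.toAddSubgroup ≤ V.toAddSubgroup ∧ U.toAddSubgroup ≤ W.toAddSubgroup :=
  ⟨⟨V.toAddSubgroup ⊓ W.toAddSubgroup, V.isOpen'.inter W.isOpen',
      letI := V.finiteIndex'; letI := W.finiteIndex'; inferInstance⟩, inf_le_left, inf_le_right⟩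

instance : Nonempty (OpenFI A) := ⟨⟨⊤, isOpen_univ, inferInstance⟩⟩

instance (U : OpenFI A) : DiscreteTopology (A ⧸ U.toAddSubgroup) :=
  QuotientAddGroup.discreteTopology U.isOpen'

instance (U : OpenFI A) : Finite (A ⧸ U.toAddSubgroup) :=
  letI := U.finiteIndex'
  inferInstance

theorem isCompact_FICompl : IsCompact (FICompl A : Set ((U : OpenFI A) → A ⧸ U.toAddSubgroup)) := by
  refine IsClosed.isCompact ?_
  have : (FICompl A : Set ((U : OpenFI A) → A ⧸ U.toAddSubgroup)) =
      ⋂ (U : OpenFI A) (V : OpenFI A) (h : U.toAddSubgroup ≤ V.toAddSubgroup),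
        {x | QuotientAddGroup.map U.toAddSubgroup V.toAddSubgroup (AddMonoidHom.id A) h (x U)
          = x V} := by
    ext x
    simp only [Set.mem_iInter]
    rfl
  rw [this]
  exact isClosed_iInter fun U => isClosed_iInter fun V => isClosed_iInter fun _ =>
    isClosed_eq (continuous_of_discreteTopology.comp (continuous_apply U)) (continuous_apply V)

omit [IsTopologicalAddGroup A] [IsTopologicalAddGroup B] in
theorem map_comap_injective (f : A →+ B) (hf : Continuous f) (V : OpenFI B) :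
    Function.Injective (QuotientAddGroup.map (V.comap f hf).toAddSubgroup V.toAddSubgroup f
      (V.comap_le f)) := by
  refine (injective_iff_map_eq_zero _).2 fun x hx => ?_
  obtain ⟨a, rfl⟩ := QuotientAddGroup.mk_surjective x
  change (f a : B ⧸ V.toAddSubgroup) = 0 at hx
  rw [QuotientAddGroup.eq_zero_iff] at hx
  exact (QuotientAddGroup.eq_zero_iff a).2 hx

/-- An element of `B^∧` is in the image of `A^∧` iff each of its components is in the image
of `A`. -/
theorem mem_range_map_iff (f : A →+ B) (hf : Continuous f) (y : FICompl B) :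
    y ∈ (FICompl.map f hf).range ↔
      ∀ V : OpenFI B, ∃ a : A, (f a : B ⧸ V.toAddSubgroup) = y.1 V := by
  constructor
  · rintro ⟨x, rfl⟩ V
    obtain ⟨a, ha⟩ := QuotientAddGroup.mk_surjective (x.1 (V.comap f hf))
    refine ⟨a, ?_⟩
    show _ = QuotientAddGroup.map _ _ f _ (x.1 (V.comap f hf))
    rw [← ha]
    rfl
  · intro h
    let S : OpenFI B → Set ((U : OpenFI A) → A ⧸ U.toAddSubgroup) := fun V =>
      (FICompl A : Set _) ∩ {x | QuotientAddGroup.map (V.comap f hf).toAddSubgroup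
        V.toAddSubgroup f (V.comap_le f) (x (V.comap f hf)) = y.1 V}
    have hcl : ∀ V, IsClosed (S V) := fun V => isCompact_FICompl.isClosed.inter
      (isClosed_eq (continuous_of_discreteTopology.comp (continuous_apply _)) continuous_const)
    have hmono : ∀ V W : OpenFI B, V.toAddSubgroup ≤ W.toAddSubgroup → S V ⊆ S W := by
      rintro V W hVW x ⟨hx, hxV⟩
      have h1 := hx (V.comap f hf) (W.comap f hf) (OpenFI.comap_mono f hf hVW)
      have h2 := y.2 V W hVW
      refine ⟨hx, ?_⟩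
      obtain ⟨a, ha⟩ := QuotientAddGroup.mk_surjective (x (V.comap f hf))
      simp only [Set.mem_setOf_eq] at hxV ⊢
      rw [← ha] at hxV h1
      change (f a : B ⧸ V.toAddSubgroup) = y.1 V at hxV
      change (a : A ⧸ (W.comap f hf).toAddSubgroup) = x (W.comap f hf) at h1
      rw [← h1, ← h2, ← hxV]
      rfl
    obtain ⟨x, hx⟩ := IsCompact.nonempty_iInter_of_directed_nonempty_isCompact_isClosed S
      (fun V W => by
        obtain ⟨U, h1, h2⟩ := openFI_inf_exists V W
        exact ⟨U, hmono U V h1, hmono U W h2⟩)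
      (fun V => by
        obtain ⟨a, ha⟩ := h V
        exact ⟨(toFICompl A a).1, (toFICompl A a).2, ha⟩)
      (fun V => (hcl V).isCompact) hcl
    simp only [Set.mem_iInter] at hx
    refine ⟨⟨x, (hx (Classical.arbitrary _)).1⟩, Subtype.ext (funext fun V => (hx V).2)⟩

end FICompl

end Groth.Agent.ProComplLib
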