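import Mathlib

/-! Components of maps of profinite completions of groups. -/

namespace Groth.Agent.ProComplLib

open CategoryTheory ProfiniteGrp

universe u

variable {G H : GrpCat.{u}}

theorem eta_natural (f : G ⟶ H) (g : G) :
    (profiniteCompletion.map f).hom (ProfiniteCompletion.etaFn G g) =
      ProfiniteCompletion.etaFn H (f.hom g) :=
  ConcreteCategory.congr_hom (ProfiniteCompletion.lift_eta (f ≫ ProfiniteCompletion.eta H)) g

theorem continuous_component (K : FiniteIndexNormalSubgroup G) :
    Continuous fun x : ProfiniteCompletion.completion G => x.1 K :=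
  (continuous_apply K).comp continuous_subtype_val

theorem map_component (f : G ⟶ H) (x : ProfiniteCompletion.completion G)
    (K : FiniteIndexNormalSubgroup H) :
    ((profiniteCompletion.map f).hom x).1 K =
      QuotientGroup.map (K.comap f.hom).toSubgroup K.toSubgroup f.hom le_rfl
        (x.1 (K.comap f.hom)) := by
  have : DiscreteTopology ((ProfiniteCompletion.diagram G).obj (K.comap f.hom)) := ⟨rfl⟩
  let F : ProfiniteCompletion.completion G → (ProfiniteCompletion.diagram H).obj K :=
    fun x => ((profiniteCompletion.map f).hom x).1 K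
  let F' : (ProfiniteCompletion.diagram G).obj (K.comap f.hom) →
      (ProfiniteCompletion.diagram H).obj K :=
    fun q => QuotientGroup.map (K.comap f.hom).toSubgroup K.toSubgroup f.hom le_rfl q
  refine congrFun (Continuous.ext_on (f := F) (g := fun x => F' (x.1 (K.comap f.hom)))
    (ProfiniteCompletion.denseRange G) ?_ ?_ ?_) x
  · exact (continuous_component K).comp (profiniteCompletion.map f).hom.continuous_toFun
  · exact continuous_of_discreteTopology.comp (continuous_component (K.comap f.hom))
  · rintro _ ⟨g, rfl⟩
    show ((profiniteCompletion.map f).hom (ProfiniteCompletion.etaFn G g)).1 K = _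
    rw [eta_natural]
    rfl

theorem map_component_injective (f : G ⟶ H) (K : FiniteIndexNormalSubgroup H)
    {q : G ⧸ (K.comap f.hom).toSubgroup}
    (h : QuotientGroup.map (K.comap f.hom).toSubgroup K.toSubgroup f.hom le_rfl q = 1) : q = 1 := by
  obtain ⟨g, rfl⟩ := QuotientGroup.mk_surjective q
  change (f.hom g : H ⧸ K.toSubgroup) = 1 at h
  have hm : f.hom g ∈ K.toSubgroup := (QuotientGroup.eq_one_iff (f.hom g)).1 h
  exact (QuotientGroup.eq_one_iff g).2 hm

/-- An element is in the image of a map of completions iff all its components come from the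
group. -/
theorem mem_range_of_components (f : G ⟶ H) (y : ProfiniteCompletion.completion H)
    (h : ∀ K : FiniteIndexNormalSubgroup H, ∃ g : G, (f.hom g : H ⧸ K.toSubgroup) = y.1 K) :
    ∃ x, (profiniteCompletion.map f).hom x = y := by
  let S : FiniteIndexNormalSubgroup H → Set (ProfiniteCompletion.completion G) := fun K =>
    {x | ((profiniteCompletion.map f).hom x).1 K = y.1 K}
  have : ∀ K, T2Space ((ProfiniteCompletion.diagram H).obj K) := fun K => inferInstance
  have hcl : ∀ K, IsClosed (S K) := fun K =>
    isClosed_eq ((continuous_component K).comp (profiniteCompletion.map f).hom.continuous_toFun)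
      continuous_const
  have hmono : ∀ K L, K ≤ L → S K ⊆ S L := by
    intro K L hKL x hx
    show ((profiniteCompletion.map f).hom x).1 L = y.1 L
    rw [← ((profiniteCompletion.map f).hom x).2 (homOfLE hKL), ← y.2 (homOfLE hKL)]
    exact congrArg _ hx
  have : Nonempty (FiniteIndexNormalSubgroup H) :=
    ⟨FiniteIndexNormalSubgroup.ofSubgroup ⊤⟩
  obtain ⟨x, hx⟩ := IsCompact.nonempty_iInter_of_directed_nonempty_isCompact_isClosed S
    (fun K L => ⟨K ⊓ L, hmono _ K inf_le_left, hmono _ L inf_le_right⟩)
    (fun K => by
      obtain ⟨g, hg⟩ := h K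
      refine ⟨ProfiniteCompletion.etaFn G g, ?_⟩
      show ((profiniteCompletion.map f).hom (ProfiniteCompletion.etaFn G g)).1 K = y.1 K
      rw [eta_natural]
      exact hg)
    (fun K => (hcl K).isCompact) hcl
  simp only [Set.mem_iInter] at hx
  exact ⟨x, Subtype.ext (funext hx)⟩

end Groth.Agent.ProComplLib
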